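import Mathlib
import Cfsg.Agent.Lib.Helper44.FW.Defs

/-!
# FW (S3211), package [SWAP]
-/

set_option autoImplicit false

namespace Cfsg.Agent.Lib.Helper73.FW

open Cfsg.Agent.Lib.Helper44.FW

universe u

/-- [SWAP] -/
theorem pkgSwap : PkgSwap.{u} := by
  rintro G _ j t₀ hord hH ht₀C ht₀2 ht₀1 ht₀j ⟨g, hgne, hgc⟩
  have mem_iff : ∀ x : G, x ∈ Subgroup.centralizer ({j} : Set G) ↔ j * x = x * j := by
    intro x
    rw [Subgroup.mem_centralizer_iff]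
    constructor
    · intro h; exact h j rfl
    · intro h y hy; rw [Set.mem_singleton_iff.mp hy]; exact h
  have hj2 : j * j = 1 := by
    have := pow_orderOf_eq_one j
    rw [hord, pow_two] at this
    exact this
  have hj1 : j ≠ 1 := by rintro rfl; simp at hord
  have htC : g * j * g⁻¹ ∈ Subgroup.centralizer ({j} : Set G) := (mem_iff _).mpr hgc.symm
  have ht2 : (g * j * g⁻¹) ^ 2 = 1 := by
    calc (g * j * g⁻¹) ^ 2 = g * (j * j) * g⁻¹ := by rw [pow_two]; group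
      _ = 1 := by rw [hj2]; group
  have ht1 : g * j * g⁻¹ ≠ 1 := by
    intro h
    apply hj1
    calc j = g⁻¹ * (g * j * g⁻¹) * g := by group
      _ = 1 := by rw [h]; group
  obtain ⟨c, hcC, hc⟩ := hH _ htC ht2 ht1 hgne t₀ ht₀C ht₀2 ht₀1 ht₀j
  have hg₁ : (c * g) * j * (c * g)⁻¹ = t₀ := by rw [← hc]; group
  set g₁ := c * g with hg₁def
  have ht₀comm : j * t₀ = t₀ * j := (mem_iff t₀).mp ht₀C
  have haC : g₁⁻¹ * j * g₁ ∈ Subgroup.centralizer ({j} : Set G) := by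
    rw [mem_iff]
    calc j * (g₁⁻¹ * j * g₁) = g₁⁻¹ * ((g₁ * j * g₁⁻¹) * j) * g₁ := by group
      _ = g₁⁻¹ * (t₀ * j) * g₁ := by rw [hg₁]
      _ = g₁⁻¹ * (j * t₀) * g₁ := by rw [ht₀comm]
      _ = g₁⁻¹ * (j * (g₁ * j * g₁⁻¹)) * g₁ := by rw [hg₁]
      _ = g₁⁻¹ * j * g₁ * j := by group
  have ha2 : (g₁⁻¹ * j * g₁) ^ 2 = 1 := by
    calc (g₁⁻¹ * j * g₁) ^ 2 = g₁⁻¹ * (j * j) * g₁ := by rw [pow_two]; group
      _ = 1 := by rw [hj2]; group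
  have ha1 : g₁⁻¹ * j * g₁ ≠ 1 := by
    intro h
    apply hj1
    calc j = g₁ * (g₁⁻¹ * j * g₁) * g₁⁻¹ := by group
      _ = 1 := by rw [h]; group
  have haj : g₁⁻¹ * j * g₁ ≠ j := by
    intro h
    apply ht₀j
    calc t₀ = g₁ * j * g₁⁻¹ := hg₁.symm
      _ = g₁ * (g₁⁻¹ * j * g₁) * g₁⁻¹ := by rw [h]
      _ = j := by group
  obtain ⟨c', hc'C, hc'⟩ := hH t₀ ht₀C ht₀2 ht₀1 ht₀j _ haC ha2 ha1 haj
  have hc'j : j * c' = c' * j := (mem_iff c').mp hc'C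
  refine ⟨g₁ * c', ?_, ?_⟩
  · calc g₁ * c' * j * (g₁ * c')⁻¹ = g₁ * (c' * j) * c'⁻¹ * g₁⁻¹ := by group
      _ = g₁ * (j * c') * c'⁻¹ * g₁⁻¹ := by rw [hc'j]
      _ = g₁ * j * g₁⁻¹ := by group
      _ = t₀ := hg₁
  · calc g₁ * c' * t₀ * (g₁ * c')⁻¹ = g₁ * (c' * t₀ * c'⁻¹) * g₁⁻¹ := by group
      _ = g₁ * (g₁⁻¹ * j * g₁) * g₁⁻¹ := by rw [hc']
      _ = j := by group

end Cfsg.Agent.Lib.Helper73.FW
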